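import Groth.Agent.KFlat.ClosedImm
import Groth.Agent.KFlat.SchemeStalk
import Groth.Agent.RegDual.Scheme
import Groth.Agent.FibDepth.AB
import Groth.Agent.SerreReg.CM
import Groth.Agent.QC.Coherent
import Groth.Agent.SerrePn.ClosedDepth
import Groth.Agent.Goren.MCMDepth
import Mathlib

/-!
Kernels of epimorphisms from finite locally free modules onto sheaves of projective dimension at most one.
-/

set_option autoImplicit false
set_option backward.isDefEq.respectTransparency false
set_option linter.style.haveILetI false

universe u

open CategoryTheory CategoryTheory.Limits AlgebraicGeometry TopologicalSpace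

noncomputable section

namespace Groth.Agent.ElemMod

variable {X : Scheme.{u}}

/-- The kernel of an epimorphism has free stalks where the target has projective dimension at most one. -/
theorem free_stalk_kernel [IsLocallyNoetherian X] {F G : X.Modules} (f : F ⟶ G) [Epi f] (x : X)
    [Module.Free (X.presheaf.stalk x) (F.presheaf.stalk x)] [Module.Finite (X.presheaf.stalk x) (F.presheaf.stalk x)]
    (hG : SerreReg.PdLE (X.presheaf.stalk x) (G.presheaf.stalk x) 1) :
    Module.Free (X.presheaf.stalk x) ((kernel f).presheaf.stalk x) := by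
  let S : ShortComplex X.Modules := ShortComplex.mk (kernel.ι f) f (kernel.condition f)
  have hS : S.ShortExact :=
    { exact := S.exact_of_f_is_kernel (kernelIsKernel f) }
  have h := hS.map_of_exact (DerSch.stalkFunctor X x)
  let φ : F.presheaf.stalk x →ₗ[X.presheaf.stalk x] G.presheaf.stalk x := ((DerSch.stalkFunctor X x).map f).hom
  let ι : (kernel f).presheaf.stalk x →ₗ[X.presheaf.stalk x] F.presheaf.stalk x :=
    ((DerSch.stalkFunctor X x).map (kernel.ι f)).hom
  have hφ : Function.Surjective φ := (ModuleCat.epi_iff_surjective _).1 h.epi_g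
  have hι : Function.Injective ι := (ModuleCat.mono_iff_injective _).1 h.mono_f
  have hex : Function.Exact ι φ := (ShortComplex.ShortExact.moduleCat_exact_iff_function_exact _).1 h.exact
  haveI : Module.Projective (X.presheaf.stalk x) (LinearMap.ker φ) :=
    (SerreReg.pdLE_zero_iff _).1 ((SerreReg.pdLE_succ_iff φ hφ 0).1 hG)
  let e : (kernel f).presheaf.stalk x ≃ₗ[X.presheaf.stalk x] LinearMap.ker φ :=
    (LinearEquiv.ofInjective ι hι).trans (LinearEquiv.ofEq _ _ (LinearMap.exact_iff.1 hex).symm)
  haveI : Module.Finite (X.presheaf.stalk x) (LinearMap.ker φ) := Module.Finite.of_fg (IsNoetherian.noetherian _)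
  haveI : Module.Free (X.presheaf.stalk x) (LinearMap.ker φ) := Module.free_of_flat_of_isLocalRing
  exact Module.Free.of_equiv e.symm

/-- On a surface with regular local rings, a torsion-free sheaf on a curve has projective dimension one. -/
theorem pdLE_one_push {S C : Scheme.{u}} [IsLocallyNoetherian S] (j : C ⟶ S) [IsClosedImmersion j] [IsIntegral C]
    (hd : topologicalKrullDim S ≤ 2) (hC : topologicalKrullDim C = 1) (M : C.Modules) (hM : Coh.IsCoh M)
    (hMtf : TorSh.IsTorsionFree M) (x : S) [IsRegularLocalRing (S.presheaf.stalk x)] :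
    SerreReg.PdLE (S.presheaf.stalk x) (((Scheme.Modules.pushforward j).obj M).presheaf.stalk x) 1 := by
  let G := (Scheme.Modules.pushforward j).obj M
  have hG : Coh.IsCoh G := by
    haveI := hM.1
    exact QC.isCoh_pushforward_of_isFinite j hM.2
  haveI := RegDual.finite_stalk hG x
  obtain ⟨d, hdR⟩ := SerreReg.exists_dim_nat (S.presheaf.stalk x)
  have hd2 : d ≤ 2 := by
    have h := (RegDual.ringKrullDim_stalk_le_topologicalKrullDim x).trans hd
    rw [hdR] at h
    exact_mod_cast h
  rw [FibDepth.pdLE_iff_le_depth (A := S.presheaf.stalk x) hdR]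
  rcases Nat.lt_or_ge d 2 with hlt | hge
  · simp [show d - 1 = 0 by omega]
  rw [show d - 1 = 1 by omega, Nat.cast_one]
  rcases subsingleton_or_nontrivial (G.presheaf.stalk x) with hsub | hnt
  · rw [FlatDepth.depth_eq_top]
    exact le_top
  by_cases hx : x ∈ Set.range j.base
  swap
  · exact absurd (KFlat.subsingleton_stalk_push j M hx) (not_subsingleton_iff_nontrivial.2 hnt)
  obtain ⟨c, rfl⟩ := hx
  rw [Order.one_le_iff_pos, Goren.depth_pos_iff_exists]
  by_cases hzero : IsField (C.presheaf.stalk c)
  · exfalso
    letI := specializationOrder C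
    letI := specializationOrder S
    have hc0 : Order.coheight c = 0 := by
      have h := ringKrullDim_stalk_eq_coheight c
      rw [ringKrullDim_eq_zero_of_isField hzero] at h
      exact_mod_cast h.symm
    have hgc : genericPoint C ⤳ c := genericPoint_specializes c
    have hcg : c ⤳ genericPoint C := (Order.coheight_eq_zero.1 hc0) (show c ≤ genericPoint C from hgc)
    obtain ⟨c', hc'⟩ : ∃ c' : C, c' ≠ c := by
      by_contra hcon
      push Not at hcon
      haveI : Subsingleton C := ⟨fun a b => (hcon a).trans (hcon b).symm⟩
      have := topologicalKrullDim_zero_of_discreteTopology C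
      rw [hC] at this
      exact absurd this (by decide)
    have h1 : c ⤳ c' := hcg.trans (genericPoint_specializes c')
    have h2 : j c ⤳ j c' := h1.map j.continuous
    have hlt : j c' < j c := lt_of_le_not_ge h2 fun (h : j c' ⤳ j c) =>
      hc' (((j.isClosedEmbedding.isInducing.specializes_iff).1 h).antisymm h1).eq
    have h3 := (Order.coheight_add_one_le hlt)
    have h4 : ((Order.coheight (j c') : ℕ∞) : WithBot ℕ∞) ≤ (2 : WithBot ℕ∞) := by
      rw [← ringKrullDim_stalk_eq_coheight]
      exact (RegDual.ringKrullDim_stalk_le_topologicalKrullDim _).trans hd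
    have h5 : Order.coheight (j c) = 2 := by
      have h := ringKrullDim_stalk_eq_coheight (j c)
      rw [hdR, show d = 2 by omega] at h
      exact WithBot.coe_inj.1 h.symm
    rw [h5] at h3
    have h6 : Order.coheight (j c') ≤ 2 := WithBot.coe_le_coe.1 h4
    exact absurd (h3.trans h6) (by decide)
  · obtain ⟨a, ha, ha0⟩ : ∃ a ∈ IsLocalRing.maximalIdeal (C.presheaf.stalk c), a ≠ 0 := by
      by_contra hcon
      push Not at hcon
      exact hzero (IsLocalRing.isField_iff_maximalIdeal_eq.2 ((Submodule.eq_bot_iff _).2 hcon))
    obtain ⟨r, rfl⟩ := j.stalkMap_surjective c a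
    refine ⟨r, fun hu => ha (hu.map (j.stalkMap c).hom), fun m n hmn => ?_⟩
    apply (KFlat.pushStalk_bijective j c M).1
    haveI : Module.IsTorsionFree (C.presheaf.stalk c) (KFlat.PStalk (DCoh.toP.obj M) c) := hMtf c
    have h1 : (j.stalkMap c).hom r • KFlat.pushStalk j c M m = (j.stalkMap c).hom r • KFlat.pushStalk j c M n :=
      (KFlat.pushStalk_smul j c M r m).symm.trans ((congrArg _ hmn).trans (KFlat.pushStalk_smul j c M r n))
    exact smul_right_injective _ ha0 h1

end Groth.Agent.ElemMod
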